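import Groth.Agent.AlgSpDec.PointsSpectral
import Groth.Agent.EGA41Lib.ConsX
import Groth.Agent.AlgSpDec.MonoRep

/-!
# Constructible subsets of the space of points of a quasi-separated algebraic space
-/

set_option backward.isDefEq.respectTransparency false
set_option backward.isDefEq.respectTransparency.types false
set_option linter.style.haveILetI false

universe u

open CategoryTheory CategoryTheory.Limits AlgebraicGeometry AlgSp TopologicalSpace Topology
open Groth.Agent.AlgSpLib Groth.Agent.AlgSpPts Groth.Agent.AlgSpDec Groth.Agent.SpecLib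

namespace Groth.Agent.PtConstr

variable {S : Scheme.{u}} {X : Sp S}

/-- The images of affine etale charts. -/
def basicSets (X : Sp S) : Set (Set (Points X)) :=
  {A | ∃ (U : Over S) (a : (yon S).obj U ⟶ X), IsAffine U.left ∧ RepWith @Etale a ∧ A = Set.range (Points.ofPt a)}

theorem isOpen_of_mem_basicSets {A : Set (Points X)} (h : A ∈ basicSets X) : IsOpen A := by
  obtain ⟨U, a, -, ha, rfl⟩ := h
  exact (isOpenMap_ofPt ha).isOpen_range

theorem isCompact_of_mem_basicSets {A : Set (Points X)} (h : A ∈ basicSets X) : IsCompact A := by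
  obtain ⟨U, a, hU, -, rfl⟩ := h
  exact isCompact_range (Points.continuous_ofPt a)

theorem isTopologicalBasis_basicSets (hX : IsAlgSpace X) : IsTopologicalBasis (basicSets X) :=
  isTopologicalBasis_of_isOpen_of_nhds (fun _ => isOpen_of_mem_basicSets) fun x O hx hO => by
    obtain ⟨U, a, u, -, ha, rfl⟩ := exists_affine_chart_at hX x
    obtain ⟨W, hW, huW, hWO⟩ := exists_isAffineOpen_mem_and_subset
      (U := ⟨Points.ofPt a ⁻¹' O, hO.preimage (Points.continuous_ofPt a)⟩) (x := u) hx
    let ι : Over.mk (W.ι ≫ U.hom) ⟶ U := Over.homMk W.ι rfl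
    refine ⟨_, ⟨_, (yon S).map ι ≫ a, hW, repWith_comp ((repWith_yon_map_iff _ ι).2
      (inferInstanceAs (Etale W.ι))) ha, rfl⟩, ⟨(⟨u, huW⟩ : W.toScheme), ofPt_comp _ _ _⟩, ?_⟩
    rintro _ ⟨w, rfl⟩
    rw [ofPt_comp]
    exact hWO (w : W.toScheme).2

theorem prespectralSpace_points (hX : IsAlgSpace X) : PrespectralSpace (Points X) :=
  .of_isTopologicalBasis (isTopologicalBasis_basicSets hX) fun _ => isCompact_of_mem_basicSets

theorem exists_finite_basic (hX : IsAlgSpace X) {A : Set (Points X)} (hA : IsOpen A) (hAc : IsCompact A) :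
    ∃ s : Set (Set (Points X)), s.Finite ∧ s ⊆ basicSets X ∧ A = ⋃ i ∈ s, i := by
  obtain ⟨s, hs, hsA⟩ := (isTopologicalBasis_basicSets hX).open_eq_sUnion hA
  obtain ⟨s', hs', hsf, hscov⟩ := hAc.elim_finite_subcover_image (b := s) (c := id)
    (fun i hi => isOpen_of_mem_basicSets (hs hi)) (by rw [hsA, Set.sUnion_eq_biUnion]; rfl)
  refine ⟨s', hsf, hs'.trans hs, Set.Subset.antisymm hscov ?_⟩
  rw [hsA]
  exact Set.iUnion₂_subset fun i hi => Set.subset_sUnion_of_mem (hs' hi)

theorem quasiSeparatedSpace_points [QuasiSeparatedSpace ↥S] (hX : IsAlgSpace X) (hqs : IsQuasiSeparatedSp X) :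
    QuasiSeparatedSpace (Points X) := ⟨fun A A' hA hAc hA' hA'c => by
  obtain ⟨s, hsf, hs, rfl⟩ := exists_finite_basic hX hA hAc
  obtain ⟨t, htf, ht, rfl⟩ := exists_finite_basic hX hA' hA'c
  rw [Set.iUnion₂_inter]
  refine hsf.isCompact_biUnion fun i hi => ?_
  rw [Set.inter_iUnion₂]
  refine htf.isCompact_biUnion fun k hk => ?_
  obtain ⟨U, a, hU, ha, rfl⟩ := hs hi
  obtain ⟨V, b, hV, -, rfl⟩ := ht hk
  exact isCompact_range_inter hX hqs ha⟩

variable [QuasiSeparatedSpace ↥S] (hX : IsAlgSpace X) (hqs : IsQuasiSeparatedSp X)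
include hX hqs

theorem isCompact_preimage_chart {W : Over S} [IsAffine W.left] {a : (yon S).obj W ⟶ X}
    (ha : RepWith @Etale a) {A : Set (Points X)} (hA : IsOpen A) (hAc : IsCompact A) :
    IsCompact (Points.ofPt a ⁻¹' A) := by
  obtain ⟨s, hsf, hs, rfl⟩ := exists_finite_basic hX hA hAc
  rw [Set.preimage_iUnion₂]
  refine hsf.isCompact_biUnion fun i hi => ?_
  obtain ⟨V, b, hV, hb, rfl⟩ := hs hi
  haveI : IsAffine V.left := hV
  have hq : ∀ (T : Over S) [CompactSpace ↥T.left], IsQuasiCompactSp ((yon S).obj T) := fun T _ => by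
    haveI : CompactSpace (Points ((yon S).obj T)) := (Points.schemeHomeo _).compactSpace
    exact (isQuasiCompactSp_iff (IsAlgSpace.yon_obj T)).2 ‹_›
  have hm := isQuasiCompactMor_of_qc_qs (IsAlgSpace.yon_obj W) hX (hq W) hqs a
  have sq := ha.rep.isPullback' b
  have hP := hm (IsAlgSpace.yon_obj V) (hq V) b _ _ sq
  haveI : CompactSpace ↥(ha.rep.pullback b).left :=
    haveI := (isQuasiCompactSp_iff (IsAlgSpace.yon_obj _)).1 hP
    (Points.schemeHomeo (ha.rep.pullback b)).symm.compactSpace
  have : Points.ofPt a ⁻¹' Set.range (Points.ofPt b) = Set.range (ha.rep.fst' b).left := by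
    ext w
    constructor
    · rintro ⟨v, hv⟩
      obtain ⟨r, hr, -⟩ := exists_ofPt_of_eq sq hv.symm
      exact ⟨r, hr⟩
    · rintro ⟨r, rfl⟩
      refine ⟨(ha.rep.snd b).left r, ?_⟩
      rw [← ofPt_comp, ← ofPt_comp, sq.w]
  rw [this]
  exact isCompact_range (ha.rep.fst' b).left.continuous

set_option maxHeartbeats 1000000 in
/-- Constructibility of a subset can be read on the image of an affine chart. -/
theorem isConstructible_chart_iff {W : Over S} [IsAffine W.left] {a : (yon S).obj W ⟶ X}
    (ha : RepWith @Etale a) (E : Set (Points X)) :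
    IsConstructible (Points.ofPt a ⁻¹' E) ↔
      IsConstructible ((Subtype.val : Set.range (Points.ofPt a) → Points X) ⁻¹' E) := by
  have hd := isDecent_of_isQuasiSeparatedSp hX hqs
  haveI := prespectralSpace_points hX
  haveI := quasiSeparatedSpace_points hX hqs
  haveI := t0Space_points hX hd
  haveI := quasiSober_points hX hd
  let O := Set.range (Points.ofPt a)
  have hO : IsOpen O := (isOpenMap_ofPt ha).isOpen_range
  have he : IsOpenEmbedding (Subtype.val : O → Points X) := hO.isOpenEmbedding_subtypeVal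
  haveI : CompactSpace O := isCompact_iff_compactSpace.1 (isCompact_range (Points.continuous_ofPt a))
  haveI : PrespectralSpace O := he.prespectralSpace
  haveI : QuasiSeparatedSpace O := he.quasiSeparatedSpace
  haveI : QuasiSober O := he.quasiSober
  haveI : T0Space O := Subtype.t0Space
  haveI : SpectralSpace O := {}
  haveI : SpectralSpace ↥W.left := {}
  let f : ↥W.left → O := Set.rangeFactorization (Points.ofPt a)
  have hf : IsSpectralMap f := by
    refine ⟨(Points.continuous_ofPt a).subtype_mk _, fun V hV hVc => ?_⟩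
    have h1 := isCompact_preimage_chart hX hqs ha (he.isOpenMap V hV) (hVc.image continuous_subtype_val)
    have h2 : Points.ofPt a ⁻¹' (Subtype.val '' V) = f ⁻¹' V := by
      ext w
      exact ⟨fun ⟨v, hv, e⟩ => show f w ∈ V by rwa [← show v = f w from Subtype.ext e], fun h => ⟨f w, h, rfl⟩⟩
    exact h2 ▸ h1
  have hsurj : Function.Surjective f := Set.rangeFactorization_surjective
  show IsConstructible (f ⁻¹' (Subtype.val ⁻¹' E)) ↔ _
  constructor
  · intro h
    obtain ⟨hcc, hco⟩ := cons_clopen h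
    refine Groth.Agent.EGA41Lib.isConstructible_of_cc_co ?_ ?_
    · exact hsurj.image_preimage (Subtype.val ⁻¹' E) ▸ hcc.image hf
    · have h' : CC (f ⁻¹' (Subtype.val ⁻¹' E)ᶜ) := by rw [Set.preimage_compl]; exact hco.compl
      exact compl_compl (Subtype.val ⁻¹' E : Set O) ▸ (hsurj.image_preimage (Subtype.val ⁻¹' E)ᶜ ▸ h'.image hf).compl
  · intro h
    obtain ⟨hcc, hco⟩ := cons_clopen h
    exact Groth.Agent.EGA41Lib.isConstructible_of_cc_co (hcc.preimage hf)
      (@IsOpen.preimage _ _ (constructibleTopology _) (constructibleTopology _) f (IsSpectralMap.continuous_cons hf) _ hco)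

/-- Local constructibility is etale local. -/
theorem isLocallyConstructible_iff (E : Set (Points X)) :
    (∀ (U : Over S) (a : (yon S).obj U ⟶ X), RepWith @Etale a → IsLocallyConstructible (Points.ofPt a ⁻¹' E)) ↔
      IsLocallyConstructible E := by
  haveI := prespectralSpace_points hX
  haveI := quasiSeparatedSpace_points hX hqs
  constructor
  · intro h x
    obtain ⟨U, a, u, hU, ha, rfl⟩ := exists_affine_chart_at hX x
    haveI : IsAffine U.left := hU
    have ho := (isOpenMap_ofPt ha).isOpen_range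
    exact ⟨Set.range (Points.ofPt a), ho.mem_nhds ⟨u, rfl⟩, ho,
      (isConstructible_chart_iff hX hqs ha E).1 (h U a ha).isConstructible⟩
  · intro h U a ha u
    obtain ⟨W, hW, huW, -⟩ := exists_isAffineOpen_mem_and_subset (U := (⊤ : U.left.Opens)) (x := u) trivial
    refine ⟨W, W.isOpen.mem_nhds huW, W.isOpen, ?_⟩
    let ι : Over.mk (W.ι ≫ U.hom) ⟶ U := Over.homMk W.ι rfl
    haveI : IsAffine (Over.mk (W.ι ≫ U.hom)).left := hW
    have ha' : RepWith @Etale ((yon S).map ι ≫ a) :=
      repWith_comp ((repWith_yon_map_iff _ ι).2 (inferInstanceAs (Etale W.ι))) ha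
    have hc : IsCompact (Set.range (Points.ofPt ((yon S).map ι ≫ a))) :=
      isCompact_range (Points.continuous_ofPt _)
    have ho := (isOpenMap_ofPt ha').isOpen_range
    haveI : CompactSpace (Set.range (Points.ofPt ((yon S).map ι ≫ a))) := isCompact_iff_compactSpace.1 hc
    haveI : PrespectralSpace (Set.range (Points.ofPt ((yon S).map ι ≫ a))) :=
      ho.isOpenEmbedding_subtypeVal.prespectralSpace
    haveI : QuasiSeparatedSpace (Set.range (Points.ofPt ((yon S).map ι ≫ a))) :=
      ho.isOpenEmbedding_subtypeVal.quasiSeparatedSpace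
    have h1 := (isConstructible_chart_iff hX hqs ha' E).2
      (h.preimage_of_isOpenEmbedding ho.isOpenEmbedding_subtypeVal).isConstructible
    have e : Points.ofPt ((yon S).map ι ≫ a) ⁻¹' E = (Subtype.val : W → U.left) ⁻¹' (Points.ofPt a ⁻¹' E) := by
      ext w
      show Points.ofPt _ w ∈ E ↔ Points.ofPt a w.1 ∈ E
      rw [ofPt_comp]
      rfl
    exact e ▸ h1

end Groth.Agent.PtConstr
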